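import Cfsg.Agent.Lib.AllAbelian80.Aut.PSL
import Cfsg.Agent.Lib.AllAbelian80.Main
import Cfsg.Agent.S2065

/-!
# Automorphisms of `r`-power order fixing a Sylow `r`-subgroup

Owner: helper80.
-/

set_option autoImplicit false
set_option linter.unusedSectionVars false
set_option linter.style.haveILetI false

universe u

namespace Cfsg.Agent.Lib.AllAbelian80

open Subgroup Cfsg.Agent.Lib.Walter

theorem exists_conj_of_congr {G M : Type*} [Group G] [Group M] (e : G ≃* M) (α : MulAut G)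
    (h : MulAut.congr e α ∈ (MulAut.conj : M →* MulAut M).range) :
    ∃ g : G, ∀ x : G, α x = g * x * g⁻¹ := by
  obtain ⟨m, hm⟩ := h
  refine ⟨e.symm m, fun x => e.injective ?_⟩
  rw [map_mul, map_mul, map_inv, e.apply_symm_apply]
  have h1 := DFunLike.congr_fun hm (e x)
  simp [MulAut.congr] at h1
  exact h1.symm

/-- The statement of S2555. -/
theorem row2555 (hK : PropKnown.{u}) (hO : PropOrder.{u}) {G : Type u} [Group G] [Finite G]
    [IsSimpleGroup G] (hna : ¬ IsMulCommutative G) (hall : AllAb G) (r : ℕ) [Fact r.Prime]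
    (hr : r ∣ Nat.card G) (α : G ≃* G) (k : ℕ) (hα : orderOf α = r ^ k) (R : Sylow r G)
    (hR : ∀ x ∈ (R : Subgroup G), α x = x) : ∃ g : G, ∀ x : G, α x = g * x * g⁻¹ := by
  rcases row2554 hK hO hna hall with ⟨⟨e⟩⟩ | ⟨F, _, _, -, hq, ⟨e⟩⟩
  · refine exists_conj_of_congr e α ?_
    haveI : Subsingleton (Cfsg.Out ↥Cfsg.Spor.J1) :=
      (Nat.card_eq_one_iff_unique.1 Cfsg.Agent.S2065.result).1
    exact (QuotientGroup.eq_one_iff _).1
      (Subsingleton.elim (QuotientGroup.mk (MulAut.congr e α) : Cfsg.Out ↥Cfsg.Spor.J1) 1)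
  · refine exists_conj_of_congr e α ?_
    let R' : Sylow r (Matrix.ProjectiveSpecialLinearGroup (Fin 2) F) :=
      R.mapSurjective (f := e.toMonoidHom) e.surjective
    refine psl_inner hq (r := r) ((Nat.card_congr e.toEquiv) ▸ hr) (k := k) ?_ R' ?_
    · rw [← map_pow, ← hα, pow_orderOf_eq_one, map_one]
    · rintro _ ⟨x, hx, rfl⟩
      show e (α (e.symm (e x))) = e x
      rw [e.symm_apply_apply, hR x hx]

end Cfsg.Agent.Lib.AllAbelian80
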