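import Cfsg.Agent.Lib.AllAbelian80.Aut.Torus
import Cfsg.Agent.Lib.Walter66.PSLFacts
import Cfsg.Agent.Lib.Walter66.Config
import Cfsg.Agent.Lib.AutPSL.Main
import Cfsg.Agent.Lib.LieChambers.PSL

/-!
# `PSL(2,q)`: automorphisms of `r`-power order fixing a Sylow `r`-subgroup

They are inner for `r = p`, for `r` odd, and for `r = 2` when `q` is an odd power of `p`.

Owner: helper80.
-/

set_option autoImplicit false
set_option linter.unusedSectionVars false
set_option linter.style.haveILetI false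

namespace Cfsg.Agent.Lib.AllAbelian80

open Subgroup Cfsg.Agent.Lib.AutPSL Cfsg.Agent.Lib.Walter66

variable {F : Type} [Field F] [Fintype F]

local notation "SL2" => Matrix.SpecialLinearGroup (Fin 2) F
local notation "M2" => Matrix (Fin 2) (Fin 2) F
local notation "GL2" => GL (Fin 2) F
local notation "PSL2" => Matrix.ProjectiveSpecialLinearGroup (Fin 2) F

theorem exists_semilinear_eq (β : MulAut PSL2) :
    ∃ (g : GL2) (σ : F ≃+* F), β = conjAut g * fieldAut σ := by
  obtain ⟨g, σ, γ, hγ, h⟩ := exists_decomp (le_refl 2) β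
  rcases hγ with rfl | ⟨h3, -⟩
  · exact ⟨g, σ, by rw [h, mul_one]⟩
  · omega

/-- The field part of a power. -/
theorem exists_pow_eq (g : GL2) (σ : F ≃+* F) (n : ℕ) :
    ∃ g' : GL2, (conjAut g * fieldAut σ : MulAut PSL2) ^ n = conjAut g' * fieldAut (σ ^ n) := by
  induction n with
  | zero => exact ⟨1, by simp⟩
  | succ n ih =>
    obtain ⟨g', hg'⟩ := ih
    refine ⟨g' * Matrix.GeneralLinearGroup.map (σ ^ n).toRingHom g, ?_⟩
    rw [pow_succ, hg', map_mul, pow_succ σ n, map_mul, mul_assoc, ← mul_assoc (fieldAut (σ ^ n)),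
      fieldAut_mul_conjAut, mul_assoc, mul_assoc]

/-- An automorphism of finite order `N` has field part of order dividing `N`. -/
theorem orderOf_field_dvd {g : GL2} {σ : F ≃+* F} {N : ℕ}
    (h : (conjAut g * fieldAut σ : MulAut PSL2) ^ N = 1) : orderOf σ ∣ N := by
  obtain ⟨g', hg'⟩ := exists_pow_eq g σ N
  rw [hg'] at h
  exact orderOf_dvd_of_pow_eq_one (eq_one_of_conj_field (le_refl 2) h).2

/-- A diagonal automorphism of odd order is inner. -/
theorem inner_of_odd {g : GL2} {N : ℕ} (hN : Odd N) (h : (conjAut g : MulAut PSL2) ^ N = 1) :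
    (conjAut g : MulAut PSL2) ∈ Cfsg.Inn PSL2 := by
  rw [← map_pow] at h
  obtain ⟨c, hc⟩ := (conjAut_eq_iff (le_refl 2)).1 (h.trans (map_one (conjAut (n := 2) (F := F))).symm)
  obtain ⟨j, rfl⟩ := hN
  have hd : (Matrix.GeneralLinearGroup.det g) ^ (2 * j + 1) * c ^ 2 = 1 := by
    have h1 := congrArg Matrix.GeneralLinearGroup.det hc
    rw [map_one, map_mul, map_pow] at h1
    refine Units.ext ?_
    have h2 := congrArg Units.val h1
    rw [Units.val_mul, Units.val_one, Matrix.GeneralLinearGroup.val_det_apply (Matrix.GeneralLinearGroup.scalar _ c)] at h2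
    simp [Matrix.det_fin_two] at h2
    rw [Units.val_mul, Units.val_pow_eq_pow_val, Units.val_pow_eq_pow_val, Units.val_one,
      Matrix.GeneralLinearGroup.val_det_apply, Matrix.det_fin_two, pow_two]
    linear_combination -h2
  set e : Fˣ := (c * (Matrix.GeneralLinearGroup.det g) ^ j)⁻¹ with he
  have hde : Matrix.GeneralLinearGroup.det g = e * e := by
    calc Matrix.GeneralLinearGroup.det g
        = (Matrix.GeneralLinearGroup.det g) ^ (2 * j + 1) * c ^ 2 * (e * e) := by
          rw [he, ← mul_inv, eq_mul_inv_iff_mul_eq, pow_succ, two_mul, pow_add, pow_two]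
          ac_rfl
      _ = e * e := by rw [hd, one_mul]
  rw [inn_eq_map]
  refine ⟨Matrix.GeneralLinearGroup.scalar (Fin 2) e⁻¹ * g, ?_, ?_⟩
  · rw [SetLike.mem_coe, MonoidHom.mem_ker, map_mul, hde]
    refine Units.ext ?_
    rw [Units.val_mul, Matrix.GeneralLinearGroup.val_det_apply]
    simp [mul_comm]
    field_simp
  · exact ((conjAut_eq_iff (le_refl 2)).2 ⟨e⁻¹, rfl⟩).symm

/-- An automorphism fixing the upper unitriangular matrices is inner. -/
theorem inner_of_fix_upper {β : MulAut PSL2} (h : ∀ t : F, β (xr 0 1 t) = xr 0 1 t) :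
    β ∈ Cfsg.Inn PSL2 := by
  obtain ⟨g, σ, rfl⟩ := exists_semilinear_eq β
  have hne : (0 : Fin 2) ≠ 1 := by decide
  -- the matrix equation
  have heq : ∀ t : F, ∃ e : F, (g : M2) 0 1 * 0 = 0 ∧
      (g : M2) * !![1, σ t; 0, 1] = e • (!![1, t; 0, 1] * (g : M2)) := by
    intro t
    have h1 := h t
    rw [MulAut.mul_apply, fieldAut_xr σ hne, xr_eq_mk hne, xr_eq_mk hne, conjAut_mk] at h1
    obtain ⟨z, hz, hzz⟩ : ∃ z ∈ Subgroup.center SL2,
        conjSL g (Matrix.SpecialLinearGroup.transvection hne (σ t)) =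
          z * Matrix.SpecialLinearGroup.transvection hne t := by
      refine ⟨_, ?_, (inv_mul_cancel_right _ _).symm⟩
      have h2 := QuotientGroup.eq.1 h1.symm
      have h3 := (inferInstance : (Subgroup.center SL2).Normal).conj_mem _ h2
        (Matrix.SpecialLinearGroup.transvection hne t)
      rwa [← mul_assoc, mul_inv_cancel, one_mul] at h3
    obtain ⟨e, -, he⟩ := Matrix.SpecialLinearGroup.mem_center_iff.1 hz
    refine ⟨e, mul_zero _, ?_⟩
    have h4 := congrArg (fun s : SL2 => (s : M2) * (g : M2)) hzz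
    simp only [coe_conjSL, Matrix.SpecialLinearGroup.coe_mul, Matrix.SpecialLinearGroup.transvection_coe,
      ← he] at h4
    rw [mul_assoc, ← Units.val_mul, inv_mul_cancel, Units.val_one, mul_one] at h4
    have e1 : ∀ x : F, (1 : M2) + Matrix.single 0 1 x = !![1, x; 0, 1] := fun x => by
      ext i j; fin_cases i <;> fin_cases j <;> simp
    rw [e1, e1, mul_assoc, Matrix.scalar_apply, ← Matrix.smul_eq_diagonal_mul] at h4
    exact h4
  have hdet : (g : M2) 0 0 * (g : M2) 1 1 - (g : M2) 0 1 * (g : M2) 1 0 ≠ 0 := by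
    rw [← Matrix.det_fin_two]
    exact ((Matrix.isUnit_iff_isUnit_det _).1 g.isUnit).ne_zero
  obtain ⟨e, -, he⟩ := heq 1
  have e00 := congrFun (congrFun he 0) 0
  have e01 := congrFun (congrFun he 0) 1
  have e10 := congrFun (congrFun he 1) 0
  have e11 := congrFun (congrFun he 1) 1
  simp [Matrix.mul_apply, Fin.sum_univ_two, Matrix.vecMul, dotProduct, map_one] at e00 e01 e10 e11
  have h10 : (g : M2) 1 0 = 0 := by
    by_contra hc
    have he1 : e = 1 := mul_right_cancel₀ hc (by linear_combination -e10)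
    subst he1
    exact hc (by linear_combination -e00)
  have h00 : (g : M2) 0 0 ≠ 0 := fun h0 => hdet (by rw [h10, h0]; ring)
  have he1 : e = 1 := by
    have : (g : M2) 0 0 * (e - 1) = 0 := by rw [h10] at e00; linear_combination -e00
    linear_combination (mul_eq_zero.1 this).resolve_left h00
  subst he1
  have hdiag : (g : M2) 0 0 = (g : M2) 1 1 := by linear_combination e01
  have hσ : σ = 1 := by
    refine RingEquiv.ext fun t => ?_
    obtain ⟨e, -, he⟩ := heq t
    have e00 := congrFun (congrFun he 0) 0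
    have e01 := congrFun (congrFun he 0) 1
    simp [Matrix.mul_apply, Fin.sum_univ_two, Matrix.vecMul, dotProduct, h10] at e00 e01
    have he1 : e = 1 := by
      have : (g : M2) 0 0 * (e - 1) = 0 := by linear_combination -e00
      linear_combination (mul_eq_zero.1 this).resolve_left h00
    subst he1
    show σ t = t
    refine mul_left_cancel₀ h00 ?_
    rw [← hdiag] at e01
    linear_combination e01
  subst hσ
  rw [map_one, mul_one, inn_eq_map]
  set e : Fˣ := Units.mk0 _ h00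
  refine ⟨Matrix.GeneralLinearGroup.scalar (Fin 2) e⁻¹ * g, ?_, ?_⟩
  · rw [SetLike.mem_coe, MonoidHom.mem_ker, map_mul]
    refine Units.ext ?_
    rw [Units.val_mul, Matrix.GeneralLinearGroup.val_det_apply,
      Matrix.GeneralLinearGroup.val_det_apply]
    simp [Matrix.det_fin_two, h10, e, ← hdiag]
    field_simp
  · exact ((conjAut_eq_iff (le_refl 2)).2 ⟨e⁻¹, rfl⟩).symm

/-- Conjugating so that a given `r`-subgroup is fixed. -/
theorem exists_conj_fix {r : ℕ} [Fact r.Prime] {β : MulAut PSL2} (R : Sylow r PSL2)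
    (hR : ∀ x ∈ (R : Subgroup PSL2), β x = x) {Q : Subgroup PSL2} (hQ : IsPGroup r Q) :
    ∃ i ∈ Cfsg.Inn PSL2, ∀ x ∈ Q, (i⁻¹ * β * i) x = x := by
  obtain ⟨P, hP⟩ := hQ.exists_le_sylow
  obtain ⟨c, hc⟩ := MulAction.exists_smul_eq PSL2 P R
  refine ⟨MulAut.conj c, ⟨c, rfl⟩, fun x hx => ?_⟩
  rw [MulAut.mul_apply, MulAut.mul_apply, MulAut.inv_apply, MulEquiv.symm_apply_eq]
  refine hR _ ?_
  rw [← hc, Sylow.coe_subgroup_smul]
  exact Subgroup.smul_mem_pointwise_smul (a := MulAut.conj c) x _ (hP hx)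

theorem mem_inn_of_conj {i β : MulAut PSL2} (hi : i ∈ Cfsg.Inn PSL2)
    (h : i⁻¹ * β * i ∈ Cfsg.Inn PSL2) : β ∈ Cfsg.Inn PSL2 := by
  rw [show β = i * (i⁻¹ * β * i) * i⁻¹ by group]
  exact mul_mem (mul_mem hi h) (inv_mem hi)

/-- The odd primes different from `p`. -/
theorem inner_of_odd_prime {p f : ℕ} [Fact p.Prime] (hF : Fintype.card F = p ^ f) {r : ℕ}
    [hr : Fact r.Prime] (hr2 : r ≠ 2) (hrp : r ≠ p) (hrd : r ∣ Nat.card PSL2) {β : MulAut PSL2}
    {k : ℕ} (hβ : β ^ r ^ k = 1) (R : Sylow r PSL2) (hR : ∀ x ∈ (R : Subgroup PSL2), β x = x) :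
    β ∈ Cfsg.Inn PSL2 := by
  obtain ⟨g, σ, rfl⟩ := exists_semilinear_eq β
  obtain ⟨j, -, hj⟩ := (Nat.dvd_prime_pow hr.out).1 (orderOf_field_dvd hβ)
  rcases Nat.eq_zero_or_pos j with rfl | hj0
  · rw [pow_zero, orderOf_eq_one_iff] at hj
    subst hj
    rw [map_one, mul_one] at hβ ⊢
    exact inner_of_odd ((hr.out.odd_of_ne_two hr2).pow) hβ
  exfalso
  have hp : p.Prime := Fact.out
  have hσr : r ∣ orderOf σ := hj ▸ dvd_pow_self r hj0.ne'
  -- an element of order the `r`-part of `q ± 1`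
  have hq : 1 < p ^ f := hF ▸ Fintype.one_lt_card
  have hr2' : ¬ r ∣ Nat.gcd 2 (Fintype.card F - 1) := fun h =>
    hr2 ((Nat.prime_dvd_prime_iff_eq hr.out Nat.prime_two).1 (h.trans (Nat.gcd_dvd_left _ _)))
  have hrq : r ∣ Fintype.card F * (Fintype.card F - 1) * (Fintype.card F + 1) :=
    Linear.gcd_mul_card_PSL_two (F := F) ▸ hrd.mul_left _
  rw [hF] at hrq
  obtain ⟨N, hN, hrN⟩ : ∃ N, (N = p ^ f - 1 ∨ N = p ^ f + 1) ∧ r ∣ N := by
    rcases hr.out.dvd_mul.1 hrq with h | h
    · rcases hr.out.dvd_mul.1 h with h' | h'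
      · exact absurd ((Nat.prime_dvd_prime_iff_eq hr.out hp).1 (hr.out.dvd_of_dvd_pow h')) hrp
      · exact ⟨_, Or.inl rfl, h'⟩
    · exact ⟨_, Or.inr rfl, h⟩
  obtain ⟨z, hz⟩ : ∃ z : SL2, orderOf z = N := by
    rcases hN with rfl | rfl <;> rw [← hF]
    exacts [Linear.exists_orderOf_eq_card_sub_one, Linear.exists_orderOf_eq_card_add_one]
  have hN0 : N ≠ 0 := by rcases hN with rfl | rfl <;> omega
  set a := N.factorization r with ha
  have ha1 : 1 ≤ a := hr.out.factorization_pos_of_dvd hN0 hrN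
  have hraN : r ^ a ∣ N := Nat.ordProj_dvd N r
  have hmax : ¬ r ^ (a + 1) ∣ N := fun h => by
    have := (hr.out.pow_dvd_iff_le_factorization hN0).1 h
    omega
  set X₀ := z ^ (N / r ^ a) with hX₀
  have hX₀o : orderOf X₀ = r ^ a := by
    rw [hX₀, ← hz]
    exact orderOf_pow_orderOf_div (hz ▸ hN0) (hz.symm ▸ hraN)
  -- a conjugate of its image lies in `R`
  have hQ : IsPGroup r ↥((zpowers X₀).map (QuotientGroup.mk' (Subgroup.center SL2))) :=
    (IsPGroup.of_card (G := zpowers X₀) (n := a) (by rw [Nat.card_zpowers, hX₀o])).map _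
  obtain ⟨P, hP⟩ := hQ.exists_le_sylow
  obtain ⟨c, hc⟩ := MulAction.exists_smul_eq PSL2 P R
  obtain ⟨c', rfl⟩ := QuotientGroup.mk_surjective c
  set X := c' * X₀ * c'⁻¹ with hX
  have hXo : orderOf X = r ^ a := by
    rw [hX, Involutions.Basic.orderOf_conj_eq, hX₀o]
  have hXR : (QuotientGroup.mk X : PSL2) ∈ (R : Subgroup PSL2) := by
    rw [← hc, Sylow.coe_subgroup_smul, hX, QuotientGroup.mk_mul, QuotientGroup.mk_mul,
      QuotientGroup.mk_inv]
    exact Subgroup.smul_mem_pointwise_smul (a := MulAut.conj (QuotientGroup.mk c' : PSL2))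
      (QuotientGroup.mk X₀ : PSL2) _ (hP (mem_map_of_mem _ (mem_zpowers X₀)))
  have h1 := hR _ hXR
  rw [MulAut.mul_apply, fieldAut_mk, conjAut_mk] at h1
  obtain ⟨d, hd, hdd⟩ : ∃ d ∈ Subgroup.center SL2, conjSL g (fieldSL σ X) = d * X := by
    refine ⟨conjSL g (fieldSL σ X) * X⁻¹, ?_, (inv_mul_cancel_right _ _).symm⟩
    have h2 := QuotientGroup.eq.1 h1.symm
    have h3 := (inferInstance : (Subgroup.center SL2).Normal).conj_mem _ h2 X
    rwa [← mul_assoc, mul_inv_cancel, one_mul] at h3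
  obtain ⟨e, he2, he⟩ := Matrix.SpecialLinearGroup.mem_center_iff.1 hd
  rw [Fintype.card_fin] at he2
  have htr : σ (Matrix.trace (X : M2)) = e * Matrix.trace (X : M2) := by
    have h4 := congrArg (fun s : SL2 => Matrix.trace (s : M2)) hdd
    simp only [coe_conjSL, coe_fieldSL, Matrix.SpecialLinearGroup.coe_mul, ← he] at h4
    rw [Matrix.trace_units_conj, Matrix.scalar_apply, ← Matrix.smul_eq_diagonal_mul,
      Matrix.trace_smul, smul_eq_mul] at h4
    rw [← h4]
    simp [Matrix.trace_fin_two]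
  have hee : σ e = e := by
    rcases mul_self_eq_one_iff.1 (show e * e = 1 by rw [← pow_two]; exact he2) with rfl | rfl <;> simp
  refine trace_not_fixed hF hr.out hr2 hrp ha1 hN hraN hmax hXo hσr ?_
  -- `σ²` and an odd power fix the trace
  have hiter : ∀ n : ℕ, (σ ^ n) (Matrix.trace (X : M2)) = e ^ n * Matrix.trace (X : M2) := by
    intro n
    induction n with
    | zero => simp
    | succ n ih =>
      rw [pow_succ', RingAut.mul_apply, ih, map_mul, map_pow, hee, htr, pow_succ, mul_assoc]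
  have h5 := hiter (r ^ j)
  rw [← hj, pow_orderOf_eq_one, hj] at h5
  obtain ⟨m, hm⟩ := (hr.out.odd_of_ne_two hr2).pow (n := j)
  rw [hm, pow_succ, pow_mul, he2, one_pow, one_mul] at h5
  rw [htr]
  exact h5.symm

/-- **Automorphisms of `r`-power order fixing a Sylow `r`-subgroup are inner.** -/
theorem psl_inner (hq8 : Fintype.card F % 8 = 0 ∨ Fintype.card F % 8 = 3 ∨ Fintype.card F % 8 = 5)
    {r : ℕ} [hr : Fact r.Prime] (hrd : r ∣ Nat.card PSL2) {β : MulAut PSL2} {k : ℕ}
    (hβ : β ^ r ^ k = 1) (R : Sylow r PSL2) (hR : ∀ x ∈ (R : Subgroup PSL2), β x = x) :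
    β ∈ Cfsg.Inn PSL2 := by
  obtain ⟨p, hp⟩ := CharP.exists F
  haveI := hp
  obtain ⟨f, hpp, hF⟩ := FiniteField.card F p
  haveI := Fact.mk hpp
  by_cases hrp : r = p
  · subst hrp
    obtain ⟨P₀, hP₀⟩ := LieChambers.exists_sylow_upper (n := 2) (F := F) r
    obtain ⟨i, hi, hfix⟩ := exists_conj_fix R hR P₀.2
    exact mem_inn_of_conj hi (inner_of_fix_upper fun t =>
      hfix _ (hP₀ 0 1 (by decide) t))
  by_cases hr2 : r = 2
  · subst hr2
    have hodd : Odd (f : ℕ) := by
      rw [← Nat.not_even_iff_odd]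
      intro hev
      obtain ⟨m, hm⟩ := hev
      have hp2 : p % 2 = 1 := hpp.eq_two_or_odd.resolve_left (Ne.symm hrp)
      have h8 : Fintype.card F % 8 = 1 := by
        rw [hF, hm, ← two_mul, pow_mul, Nat.pow_mod, Nat.pow_mod p 2]
        have h4 : p % 8 = 1 ∨ p % 8 = 3 ∨ p % 8 = 5 ∨ p % 8 = 7 := by omega
        rcases h4 with h | h | h | h <;> simp [h]
      omega
    have h2 : (2 : F) ≠ 0 := Ring.two_ne_zero (by rw [ringChar.eq F p]; exact Ne.symm hrp)
    obtain ⟨i, j, w, Q⟩ := exists_quat (F := F) h2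
    have hQ : IsPGroup 2 (closure ({(QuotientGroup.mk i : PSL2), QuotientGroup.mk j} : Set PSL2)) :=
      closure_pgroup (by
        rintro y (rfl | rfl)
        exacts [Q.sq_mk_i, Q.sq_mk_j]) (by
        rintro y (rfl | rfl) z (rfl | rfl)
        exacts [rfl, Q.comm_mk, Q.comm_mk.symm, rfl])
    obtain ⟨c, hc, hfix⟩ := exists_conj_fix R hR hQ
    refine mem_inn_of_conj hc ?_
    have hβ' : (c⁻¹ * β * c) ^ 2 ^ k = 1 := by
      rw [show c⁻¹ * β * c = c⁻¹ * β * c⁻¹⁻¹ by rw [inv_inv], conj_pow, hβ, mul_one, mul_inv_cancel]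
    obtain ⟨g, σ, hg⟩ := exists_semilinear_eq (c⁻¹ * β * c)
    rw [hg] at hβ' hfix ⊢
    have hσ : σ = 1 := by
      rw [← orderOf_eq_one_iff]
      haveI : Finite (F ≃+* F) := Finite.of_injective DFunLike.coe DFunLike.coe_injective
      exact Nat.eq_one_of_dvd_coprimes (Nat.Coprime.pow_left k (Nat.coprime_two_left.2 hodd))
        (orderOf_field_dvd hβ') (card_fieldAuts hF ▸ _root_.orderOf_dvd_natCard σ)
    subst hσ
    rw [map_one, mul_one] at hfix ⊢
    obtain ⟨v, -, hv⟩ := Q.fix_linear h2 (hfix _ (subset_closure (Or.inl rfl)))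
      (hfix _ (subset_closure (Or.inr rfl)))
    exact ⟨v, hv.symm⟩
  exact inner_of_odd_prime hF hr2 hrp hrd hβ R hR

end Cfsg.Agent.Lib.AllAbelian80
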