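import Cfsg.Agent.Lib.AutPSL.Out
import Cfsg.Agent.Lib.Linear.SL2
import Cfsg.Agent.Lib.Linear.Order
import Mathlib.Algebra.CharP.Lemmas
import Mathlib.FieldTheory.Finite.Basic

/-!
# A semilinear map does not fix an element of maximal odd prime power order

If `σ` is a field automorphism whose order is a positive power of the odd prime `r ≠ p` and `X ∈ SL(2,q)` has order
`rᵃ`, the full `r`-part of `q ± 1`, then `tr X` is not fixed by `σ`.

Owner: helper80.
-/

set_option autoImplicit false
set_option linter.unusedSectionVars false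
set_option linter.style.haveILetI false

namespace Cfsg.Agent.Lib.AllAbelian80

open Subgroup

theorem mem_zpowers_of_pow_eq_one_of_cyclic {A : Type*} [Group A] [Finite A] [IsCyclic A] {r : ℕ}
    (hr : r.Prime) {x z : A} (hox : orderOf x = r) (hz : z ^ r = 1) : z ∈ zpowers x := by
  classical
  haveI : Fintype A := Fintype.ofFinite _
  by_contra h
  have h1 := IsCyclic.card_pow_eq_one_le (α := A) hr.pos
  have hsub : (insert z ((zpowers x : Set A).toFinset)) ⊆ Finset.univ.filter (fun a => a ^ r = 1) := by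
    intro a ha
    rw [Finset.mem_filter]
    refine ⟨Finset.mem_univ _, ?_⟩
    rcases Finset.mem_insert.1 ha with rfl | ha
    · exact hz
    · rw [Set.mem_toFinset, SetLike.mem_coe] at ha
      obtain ⟨i, rfl⟩ := mem_zpowers_iff.1 ha
      rw [← zpow_natCast (x ^ i) r, ← zpow_mul, mul_comm i, zpow_mul, zpow_natCast, ← hox,
        pow_orderOf_eq_one, one_zpow]
  have h2 := (Finset.card_le_card hsub).trans h1
  rw [Finset.card_insert_of_notMem (by simpa using h), Set.toFinset_card, ← Nat.card_eq_fintype_card,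
    SetLike.coe_sort_coe, Nat.card_zpowers, hox] at h2
  omega

variable {F : Type*} [Field F] [Fintype F] {p f : ℕ} [Fact p.Prime]

/-- The fixed field of an automorphism of order divisible by `r` lies in the field of `p ^ (f / r)` elements. -/
theorem pow_eq_self_of_fixed (hF : Fintype.card F = p ^ f) {r : ℕ} (hr : r.Prime) {σ : F ≃+* F}
    (hσ : r ∣ orderOf σ) : ∃ g, f = r * g ∧ ∀ t : F, σ t = t → t ^ p ^ g = t := by
  haveI : CharP F p := charP_of_card_eq_prime_pow hF
  haveI : Finite (F ≃+* F) := Finite.of_injective DFunLike.coe DFunLike.coe_injective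
  haveI := AutPSL.isCyclic_fieldAuts (F := F)
  obtain ⟨g, hg⟩ : r ∣ f := AutPSL.card_fieldAuts hF ▸ hσ.trans (_root_.orderOf_dvd_natCard σ)
  refine ⟨g, hg, fun t ht => ?_⟩
  have happ : ∀ (n : ℕ) (x : F), ((frobeniusEquiv F p) ^ n : F ≃+* F) x = x ^ p ^ n := by
    intro n
    induction n with
    | zero => intro x; simp
    | succ n ih =>
      intro x
      rw [pow_succ', RingAut.mul_apply, ih, frobeniusEquiv_apply, frobenius_def, pow_succ, pow_mul]
  set τ : F ≃+* F := frobeniusEquiv F p ^ g with hτ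
  have hτ' : τ ^ r = 1 := by
    refine RingEquiv.ext fun x => ?_
    rw [hτ, ← pow_mul, happ, mul_comm, ← hg, ← hF, FiniteField.pow_card]
    rfl
  have hσpos : 0 < orderOf σ := (isOfFinOrder_of_finite σ).orderOf_pos
  have hw : orderOf (σ ^ (orderOf σ / r)) = r := orderOf_pow_orderOf_div hσpos.ne' hσ
  obtain ⟨i, hi⟩ := mem_zpowers_iff.1 (mem_zpowers_of_pow_eq_one_of_cyclic hr hw hτ')
  have hfix : ∀ j : ℤ, (σ ^ j : F ≃+* F) t = t := by
    intro j
    induction j with
    | zero => rfl
    | succ j ih => rw [zpow_add_one, RingAut.mul_apply, ht, ih]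
    | pred j ih =>
      rw [zpow_sub_one, RingAut.mul_apply, show (σ⁻¹ : F ≃+* F) t = t from σ.symm_apply_eq.2 ht.symm,
        ih]
  have h2 : τ t = t := by
    rw [← hi, ← zpow_natCast σ, ← zpow_mul]
    exact hfix _
  rwa [hτ, happ] at h2

local notation "SL2" => Matrix.SpecialLinearGroup (Fin 2) F
local notation "M2" => Matrix (Fin 2) (Fin 2) F

/-- An element with trace fixed by the `q₁`-th power map satisfies `X ^ q₁² = X`. -/
theorem pow_sq_eq_self {X : SL2} (hns : ∀ c : F, (X : M2) ≠ c • 1) {n : ℕ}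
    (ht : Matrix.trace (X : M2) ^ p ^ n = Matrix.trace (X : M2))
    (h4 : Matrix.trace (X : M2) * Matrix.trace (X : M2) ≠ 4) (hF : CharP F p)
    (hpow : ∀ c : F, (X : M2) ^ p ^ n ≠ c • 1) :
    (X : M2) ^ (p ^ n * p ^ n) = (X : M2) := by
  haveI := hF
  haveI : CharP M2 p := Matrix.charP p
  set t := Matrix.trace (X : M2) with htdef
  set m := p ^ n with hm
  have hd : (X : M2) 0 0 * (X : M2) 1 1 - (X : M2) 0 1 * (X : M2) 1 0 = 1 := by
    rw [← Matrix.det_fin_two]
    exact X.2
  have hX2 : (X : M2) * X = t • (X : M2) - 1 := by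
    rw [htdef, Matrix.trace_fin_two]
    ext i j
    fin_cases i <;> fin_cases j <;>
      simp [Matrix.mul_apply, Fin.sum_univ_two] <;> first | ring1 | linear_combination -hd
  have hlin : ∀ c d c' d' : F, c • (X : M2) + d • 1 = c' • (X : M2) + d' • 1 → c = c' ∧ d = d' := by
    intro c d c' d' h
    have h1 : (c - c') • (X : M2) = (d' - d) • 1 := by
      rw [sub_smul, sub_smul, sub_eq_sub_iff_add_eq_add, h, add_comm]
    have hc : c = c' := by
      by_contra hne
      refine hns ((c - c')⁻¹ * (d' - d)) ?_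
      rw [← smul_smul, ← h1, smul_smul, inv_mul_cancel₀ (sub_ne_zero.2 hne), one_smul]
    refine ⟨hc, ?_⟩
    subst hc
    rw [sub_self, zero_smul] at h1
    have := congrFun (congrFun h1 0) 0
    simp at this
    linear_combination this
  have hlinpow : ∀ k : ℕ, ∃ a b : F, a ^ m = a ∧ b ^ m = b ∧ (X : M2) ^ k = a • (X : M2) + b • 1 := by
    intro k
    induction k with
    | zero => exact ⟨0, 1, zero_pow (by rw [hm]; exact pow_ne_zero _ (Fact.out : p.Prime).ne_zero),
        one_pow _, by simp⟩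
    | succ k ih =>
      obtain ⟨a, b, ha, hb, h⟩ := ih
      refine ⟨a * t + b, -a, ?_, ?_, ?_⟩
      · rw [hm, add_pow_char_pow, mul_pow, ← hm, ha, hb, ht]
      · have : (0 - a) ^ m = 0 - a := by
          rw [hm, sub_pow_char_pow, ← hm, ha, zero_pow (by rw [hm]; exact pow_ne_zero _ (Fact.out : p.Prime).ne_zero)]
        simpa using this
      · rw [pow_succ, h, add_mul, smul_mul_assoc, hX2, smul_mul_assoc, one_mul, smul_sub, smul_smul,
          add_smul, neg_smul]
        abel
  obtain ⟨a, b, ha, hb, hY⟩ := hlinpow m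
  have hY2 : (X : M2) ^ m * (X : M2) ^ m = t • (X : M2) ^ m - 1 := by
    rw [← pow_add, ← two_mul, pow_mul, pow_two, hX2, hm,
      sub_pow_char_pow_of_commute p n (Commute.one_right _), smul_pow, one_pow, ← hm, ht]
  have hsq : (a * a * t + 2 * a * b) • (X : M2) + (b * b - a * a) • 1 =
      (t * a) • (X : M2) + (t * b - 1) • 1 := by
    have e : (X : M2) ^ m * (X : M2) ^ m =
        (a * a * t + 2 * a * b) • (X : M2) + (b * b - a * a) • 1 := by
      rw [hY, add_mul, mul_add, mul_add, smul_mul_assoc, mul_smul_comm, hX2]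
      simp only [smul_mul_assoc, mul_smul_comm, one_mul, mul_one, smul_smul, smul_sub, sub_smul,
        add_smul]
      rw [show (2 : F) * a * b = a * b + b * a by ring, add_smul, mul_assoc a a t]
      abel
    rw [← e, hY2, hY, smul_add, smul_smul, smul_smul, sub_smul, one_smul]
    abel
  obtain ⟨e1, e2⟩ := hlin _ _ _ _ hsq
  have ha0 : a ≠ 0 := fun h => hpow b (by rw [hY, h, zero_smul, zero_add])
  have e1' : a * t + 2 * b - t = 0 := by
    refine (mul_eq_zero.1 (show a * (a * t + 2 * b - t) = 0 by linear_combination e1)).resolve_left ha0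
  have ha1 : (1 - a * a) * (4 - t * t) = 0 := by
    linear_combination 4 * e2 + (-2 * b - t * (1 - a) + 2 * t) * e1'
  have ha2 : a * a = 1 := by
    rcases mul_eq_zero.1 ha1 with h | h
    · linear_combination -h
    · exact absurd (by linear_combination -h) h4
  have hb' : b * (a + 1) = 0 := by
    rcases mul_self_eq_one_iff.1 ha2 with h | h <;> subst h
    · linear_combination e1'
    · ring
  calc (X : M2) ^ (m * m) = ((X : M2) ^ m) ^ m := by rw [← pow_mul]
    _ = (a • (X : M2) + b • 1) ^ p ^ n := by rw [hY, hm]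
    _ = a ^ m • ((X : M2) ^ m) + b ^ m • 1 := by
        rw [add_pow_char_pow_of_commute p n ((Commute.one_right _).smul_right b), smul_pow, smul_pow,
          one_pow, hm]
    _ = (a * a) • (X : M2) + (b * (a + 1)) • 1 := by
        rw [ha, hb, hY, smul_add, smul_smul, smul_smul, mul_add, mul_one, add_smul, mul_comm a b]
        abel
    _ = (X : M2) := by rw [ha2, hb', one_smul, zero_smul, add_zero]

theorem orderOf_coe_dvd {X : SL2} {n : ℕ} (h : (X : M2) ^ n = (1 : M2)) : orderOf X ∣ n :=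
  orderOf_dvd_of_pow_eq_one (Subtype.ext (by rw [Matrix.SpecialLinearGroup.coe_pow, h]; rfl))

/-- The trace of an element of order the full `r`-part of `q ± 1` is moved by `σ`. -/
theorem trace_not_fixed (hF : Fintype.card F = p ^ f) {r a : ℕ} (hr : r.Prime) (hr2 : r ≠ 2) (hrp : r ≠ p)
    (ha : 1 ≤ a) {N : ℕ} (hN : N = p ^ f - 1 ∨ N = p ^ f + 1) (hrN : r ^ a ∣ N)
    (hmax : ¬ r ^ (a + 1) ∣ N) {X : SL2} (hX : orderOf X = r ^ a) {σ : F ≃+* F}
    (hσ : r ∣ orderOf σ) : σ (Matrix.trace (X : M2)) ≠ Matrix.trace (X : M2) := by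
  intro hfix
  have hp : p.Prime := Fact.out
  haveI : CharP F p := charP_of_card_eq_prime_pow hF
  obtain ⟨g, hg, hfg⟩ := pow_eq_self_of_fixed hF hr hσ
  have hcop : ∀ k : ℕ, ¬ r ∣ 2 * p ^ k := fun k h => by
    rcases hr.dvd_mul.1 h with h' | h'
    · exact hr2 ((Nat.prime_dvd_prime_iff_eq hr Nat.prime_two).1 h')
    · exact hrp ((Nat.prime_dvd_prime_iff_eq hr hp).1 (hr.dvd_of_dvd_pow h'))
  have hra : r ∣ r ^ a := dvd_pow_self r (by omega)
  -- a scalar power
  have hscal : ∀ (k : ℕ) (c : F), (X : M2) ^ p ^ k ≠ c • 1 := by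
    intro k c h
    have hc : c * c = 1 := by
      have h1 := congrArg Matrix.det h
      rw [Matrix.det_pow, X.2, one_pow, Matrix.det_smul, Fintype.card_fin, Matrix.det_one, mul_one,
        pow_two] at h1
      exact h1.symm
    refine hcop k (hra.trans (hX ▸ orderOf_coe_dvd ?_))
    rw [mul_comm, pow_mul, h, pow_two, smul_mul_smul_comm, hc, one_mul, one_smul]
  have h4 : Matrix.trace (X : M2) * Matrix.trace (X : M2) ≠ 4 := by
    intro h
    have ht : ∃ e : F, e * e = 1 ∧ Matrix.trace (X : M2) = 2 * e := by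
      rcases mul_eq_zero.1 (show (Matrix.trace (X : M2) - 2) * (Matrix.trace (X : M2) + 2) = 0 by
        linear_combination h) with h' | h'
      · exact ⟨1, one_mul 1, by linear_combination h'⟩
      · exact ⟨-1, by ring, by linear_combination h'⟩
    obtain ⟨e, he, ht⟩ := ht
    have hd : (X : M2) 0 0 * (X : M2) 1 1 - (X : M2) 0 1 * (X : M2) 1 0 = 1 := by
      rw [← Matrix.det_fin_two]
      exact X.2
    rw [Matrix.trace_fin_two] at ht
    have hN2 : ((X : M2) - e • 1) ^ 2 = 0 := by
      rw [pow_two]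
      ext i j
      fin_cases i <;> fin_cases j <;> simp [Matrix.mul_apply, Fin.sum_univ_two]
      · linear_combination (X : M2) 0 0 * ht - hd + he
      · linear_combination (X : M2) 0 1 * ht
      · linear_combination (X : M2) 1 0 * ht
      · linear_combination (X : M2) 1 1 * ht - hd + he
    haveI : CharP M2 p := Matrix.charP p
    have hNp : ((X : M2) - e • 1) ^ p = 0 := by
      rw [show p = 2 + (p - 2) by have := hp.two_le; omega, pow_add, hN2, zero_mul]
    rw [sub_pow_char_of_commute p ((Commute.one_right _).smul_right e), sub_eq_zero, smul_pow,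
      one_pow] at hNp
    exact hscal 1 (e ^ p) (by rw [pow_one]; exact hNp)
  have hns : ∀ c : F, (X : M2) ≠ c • 1 := fun c h => hscal 0 c (by rwa [pow_zero, pow_one])
  have hsq := pow_sq_eq_self hns (hfg _ hfix) h4 inferInstance (hscal g)
  have hQ : 1 ≤ p ^ g * p ^ g := Nat.one_le_iff_ne_zero.2 (mul_ne_zero (pow_ne_zero _ hp.ne_zero)
    (pow_ne_zero _ hp.ne_zero))
  have hd1 : r ^ a ∣ p ^ g * p ^ g - 1 := by
    have h1 : X ^ (p ^ g * p ^ g) = X := Subtype.ext (by
      rw [Matrix.SpecialLinearGroup.coe_pow]; exact hsq)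
    rw [← hX]
    refine orderOf_dvd_of_pow_eq_one (mul_right_cancel (b := X) ?_)
    rw [← pow_succ, Nat.sub_add_cancel hQ, h1, one_mul]
  -- the `r`-part grows
  have hd2 : r ^ (a + 1) ∣ (p ^ g * p ^ g) ^ r - 1 := by
    have hqr : 1 ≤ (p ^ g * p ^ g) ^ r := Nat.one_le_pow _ _ hQ
    rw [← Int.natCast_dvd_natCast, Nat.cast_sub hqr]
    rw [← Int.natCast_dvd_natCast, Nat.cast_sub hQ] at hd1
    push_cast at hd1 ⊢
    set x : ℤ := ((p : ℤ) ^ g * (p : ℤ) ^ g)
    rw [← geom_sum_mul x r, pow_succ']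
    refine mul_dvd_mul ?_ hd1
    have hx : (x : ZMod r) = 1 := by
      have h1 : (r : ℤ) ∣ x - 1 := (dvd_pow_self (r : ℤ) (by omega : a ≠ 0)).trans hd1
      rw [← ZMod.intCast_zmod_eq_zero_iff_dvd, Int.cast_sub, Int.cast_one, sub_eq_zero] at h1
      exact h1
    rw [← ZMod.intCast_zmod_eq_zero_iff_dvd]
    simp [hx]
  have hprod : (p ^ g * p ^ g) ^ r - 1 = (p ^ f + 1) * (p ^ f - 1) := by
    rw [← Nat.sq_sub_sq, one_pow, mul_pow, ← pow_mul, mul_comm g r, ← hg, pow_two]
  rw [hprod] at hd2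
  have hf1 : 1 ≤ p ^ f := Nat.one_le_pow _ _ hp.pos
  refine hmax ((Nat.Coprime.pow_left (a + 1) ?_).dvd_of_dvd_mul_left
    (show r ^ (a + 1) ∣ ((p ^ f + 1) * (p ^ f - 1) / N) * N from ?_))
  · refine hr.coprime_iff_not_dvd.2 fun h => ?_
    have hrN' : r ∣ N := hra.trans hrN
    have hboth : r ∣ p ^ f + 1 ∧ r ∣ p ^ f - 1 := by
      rcases hN with rfl | rfl
      · rw [Nat.mul_div_cancel _ (by
          rcases Nat.eq_zero_or_pos (p ^ f - 1) with h0 | h0
          · exact absurd (h0 ▸ dvd_zero _) hmax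
          · exact h0)] at h
        exact ⟨h, hrN'⟩
      · rw [Nat.mul_div_cancel_left _ (by omega)] at h
        exact ⟨hrN', h⟩
    have h2 : r ∣ 2 := by
      have h3 := Nat.dvd_sub hboth.1 hboth.2
      rwa [show p ^ f + 1 - (p ^ f - 1) = 2 by omega] at h3
    exact hr2 ((Nat.prime_dvd_prime_iff_eq hr Nat.prime_two).1 h2)
  · rw [Nat.div_mul_cancel (by rcases hN with rfl | rfl
                               exacts [Dvd.intro_left _ rfl, Dvd.intro _ rfl])]
    exact hd2

end Cfsg.Agent.Lib.AllAbelian80
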